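import Cfsg.Agent.Lib.PSL2Eleven.Pairs

/-!
# The two classes of `A_5` in `PSL(2, 11)`
-/

set_option autoImplicit false
set_option linter.style.haveILetI false

open Matrix
open scoped MatrixGroups Pointwise

namespace Cfsg.Agent.PSL2Eleven

open PSL2

variable {F : Type*} [Field F]

/-- The element of order five. -/
def zz (h11 : (11 : F) = 0) : SL(2, F) :=
  ⟨!![-4, 0; 0, -3], by rw [Matrix.det_fin_two_of]; linear_combination h11⟩

/-- An involution. -/
def xx : SL(2, F) := ⟨!![1, 1; -2, -1], by rw [Matrix.det_fin_two_of]; ring⟩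

/-- Its image under `diag(1, -1)`. -/
def xxc : SL(2, F) := ⟨!![1, -1; 2, -1], by rw [Matrix.det_fin_two_of]; ring⟩

/-- `diag(1, -1)`. -/
def dd' : GL (Fin 2) F :=
  ⟨!![1, 0; 0, -1], !![1, 0; 0, -1],
    by ext i j; fin_cases i <;> fin_cases j <;> simp [Matrix.mul_apply, Fin.sum_univ_two],
    by ext i j; fin_cases i <;> fin_cases j <;> simp [Matrix.mul_apply, Fin.sum_univ_two]⟩

theorem conj_entries (g : SL(2, F)) :
    (AutPSL.conjSL (dd' : GL (Fin 2) F) g) 0 0 = g 0 0 ∧
    (AutPSL.conjSL (dd' : GL (Fin 2) F) g) 0 1 = -g 0 1 ∧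
    (AutPSL.conjSL (dd' : GL (Fin 2) F) g) 1 0 = -g 1 0 ∧
    (AutPSL.conjSL (dd' : GL (Fin 2) F) g) 1 1 = g 1 1 := by
  have h := AutPSL.conjSL_coe (dd' : GL (Fin 2) F) g
  refine ⟨?_, ?_, ?_, ?_⟩ <;> rw [h] <;> simp [dd', Matrix.mul_apply, Fin.sum_univ_two, Matrix.vecMul, dotProduct]

variable (h11 : (11 : F) = 0)

include h11 in
theorem charP_eleven : CharP F 11 := by
  refine (CharP.charP_iff_prime_eq_zero (by norm_num)).2 ?_
  exact_mod_cast h11

include h11 in
theorem nat_ne_zero (n : ℕ) (hn : ¬ 11 ∣ n) : (n : F) ≠ 0 := fun h => by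
  haveI := charP_eleven h11
  exact hn ((CharP.cast_eq_zero_iff F 11 n).1 h)

/-- The first icosahedral group. -/
def M0 : Subgroup PSL(2, F) :=
  Subgroup.closure {PSL2.mk xx, PSL2.mk (xx⁻¹ * zz h11)}

/-- The second icosahedral group. -/
def M1 : Subgroup PSL(2, F) :=
  (M0 h11).map (AutPSL.conjP (dd' : GL (Fin 2) F)).toMonoidHom

theorem genPair_M0 : Conjugate.IsGenPair (M0 h11) xx (xx⁻¹ * zz h11) 4 := by
  refine ⟨rfl, ?_, ?_, ?_⟩
  · rw [tr_def]; simp [xx]
  · rw [tr_def, mul00, mul11, inv00, inv01, inv10, inv11]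
    simp [xx, zz]
    ring
  · rw [mul_inv_cancel_left, tr_def]
    simp [zz]
    linear_combination (-1 : F) * h11

theorem iso_M0 : Nonempty (M0 h11 ≃* alternatingGroup (Fin 5)) := by
  obtain ⟨-, hX, hY, hXY⟩ := genPair_M0 h11
  set X : SL(2, F) := xx
  set Y : SL(2, F) := xx⁻¹ * zz h11
  have h3 := mk_cube_of_tr_eq_one hY
  have htr : tr (Y⁻¹ * X) = -4 := by
    rw [tr_def, mul00, mul11, inv00, inv01, inv10, inv11]
    simp only [tr_def, mul00, mul11] at hXY hY hX
    linear_combination (-1 : F) * hXY + (Y 0 0 + Y 1 1) * hX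
  have h5 : PSL2.mk (Y⁻¹ * X) ^ 5 = 1 := mk_pow_five (by
    rw [htr]
    linear_combination (19 : F) * h11)
  obtain ⟨e⟩ := altFive_of_pair h3 h5
    (by rw [← map_mul, mul_inv_cancel_left]; exact mk_sq_of_tr_eq_zero hX)
    (mk_ne_one_of_tr (by rw [hY]; intro h; exact one_ne_zero (show (1 : F) = 0 by linear_combination -h))
      (by rw [hY]; intro h
          exact nat_ne_zero h11 3 (by norm_num) (by push_cast; linear_combination h)))
  refine ⟨(MulEquiv.subgroupCongr ?_).trans e⟩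
  apply le_antisymm
  · rw [M0, Subgroup.closure_le]
    rintro z (rfl | rfl)
    · have hX' : PSL2.mk X = PSL2.mk Y * PSL2.mk (Y⁻¹ * X) := by rw [← map_mul, mul_inv_cancel_left]
      rw [hX']
      exact mul_mem (Subgroup.subset_closure (Or.inl rfl)) (Subgroup.subset_closure (Or.inr rfl))
    · exact Subgroup.subset_closure (Or.inl rfl)
  · rw [Subgroup.closure_le]
    rintro z (rfl | rfl)
    · exact Subgroup.subset_closure (Or.inr rfl)
    · rw [map_mul, map_inv]
      exact mul_mem (inv_mem (Subgroup.subset_closure (Or.inr rfl))) (Subgroup.subset_closure (Or.inl rfl))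

theorem iso_M1 : Nonempty (M1 h11 ≃* alternatingGroup (Fin 5)) := by
  obtain ⟨e⟩ := iso_M0 h11
  exact ⟨((AutPSL.conjP (dd' : GL (Fin 2) F)).subgroupMap (M0 h11)).symm.trans e⟩

theorem mk_zz_mem : PSL2.mk (zz h11) ∈ M0 h11 := by
  rw [show zz h11 = xx * (xx⁻¹ * zz h11) by rw [mul_inv_cancel_left], map_mul]
  exact mul_mem (Subgroup.subset_closure (Or.inl rfl)) (Subgroup.subset_closure (Or.inr rfl))

theorem zz_pow (k : ℕ) : (zz h11 ^ k) 0 0 = (-4 : F) ^ k ∧ (zz h11 ^ k) 0 1 = 0 ∧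
    (zz h11 ^ k) 1 0 = 0 ∧ (zz h11 ^ k) 1 1 = (-3 : F) ^ k := by
  induction k with
  | zero => simp
  | succ k ih =>
    obtain ⟨a, b, c, d⟩ := ih
    rw [pow_succ (zz h11)]
    refine ⟨?_, ?_, ?_, ?_⟩
    · rw [mul00, a, b]; simp [zz, pow_succ]
    · rw [mul01, a, b]; simp [zz]
    · rw [mul10, c, d]; simp [zz]
    · rw [mul11, c, d]; simp [zz, pow_succ]

variable [Fintype F] (hF : Fintype.card F = 11)

include hF in
theorem diag_mem {g : SL(2, F)} (h01 : g 0 1 = 0) (h10 : g 1 0 = 0) :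
    PSL2.mk g ∈ Subgroup.zpowers (PSL2.mk (zz h11)) := by
  classical
  have hdet := det_eq g
  rw [h01, zero_mul, sub_zero] at hdet
  have h4 : (-4 : F) ≠ 0 := fun h => nat_ne_zero h11 4 (by norm_num) (by push_cast; linear_combination -h)
  set u : Fˣ := Units.mk0 (-4 : F) h4
  have hu10 : orderOf u ∣ 10 := by
    have := orderOf_dvd_natCard (G := Fˣ) u
    rwa [Nat.card_units, Nat.card_eq_fintype_card, hF] at this
  have hne : ∀ k : ℕ, orderOf u ∣ k → (-4 : F) ^ k = 1 := fun k hk => by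
    have := congrArg Units.val (orderOf_dvd_iff_pow_eq_one.1 hk)
    simpa [u] using this
  have hu : orderOf u = 10 := by
    have hle := Nat.le_of_dvd (by norm_num) hu10
    have h5' : ¬ orderOf u ∣ 5 := fun hd => by
      have h := hne 5 hd
      exact nat_ne_zero h11 2 (by norm_num) (by push_cast; linear_combination -h - (93 : F) * h11)
    have h2' : ¬ orderOf u ∣ 2 := fun hd => by
      have h := hne 2 hd
      exact nat_ne_zero h11 15 (by norm_num) (by push_cast; linear_combination h)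
    interval_cases orderOf u <;> first | rfl | omega
  have hg0 : g 0 0 ≠ 0 := left_ne_zero_of_mul_eq_one hdet
  have hmem : Units.mk0 _ hg0 ∈ Subgroup.zpowers u := by
    have htop : Subgroup.zpowers u = ⊤ := Subgroup.eq_top_of_card_eq _ (by
      rw [Nat.card_zpowers, hu, Nat.card_units, Nat.card_eq_fintype_card, hF])
    rw [htop]; trivial
  obtain ⟨k, hk⟩ := Submonoid.mem_powers_iff _ _ |>.1
    ((isOfFinOrder_of_finite u).mem_powers_iff_mem_zpowers.2 hmem)
  have hk' : (-4 : F) ^ k = g 0 0 := by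
    have := congrArg Units.val hk
    simpa [u] using this
  have hge : g = zz h11 ^ k := by
    obtain ⟨a, b, c, d⟩ := zz_pow h11 k
    refine ext2 (a.trans hk').symm (h01.trans b.symm) (h10.trans c.symm) (Eq.trans ?_ d.symm)
    have hkk : (-4 : F) ^ k * (-3 : F) ^ k = 1 := by
      rw [← mul_pow, show (-4 : F) * -3 = 1 by linear_combination h11, one_pow]
    rw [hk'] at hkk
    exact mul_left_cancel₀ hg0 (hdet.trans hkk.symm)
  rw [hge, map_pow]
  exact pow_mem (Subgroup.mem_zpowers _) k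

include hF in
theorem shape_mem {g : SL(2, F)} (hs : (g 0 1 = 0 ∧ g 1 0 = 0) ∨ (g 0 0 = 0 ∧ g 1 1 = 0)) :
    PSL2.mk g ∈ M0 h11 ∧ PSL2.mk g ∈ M1 h11 := by
  have hle : Subgroup.zpowers (PSL2.mk (zz h11)) ≤ M0 h11 := Subgroup.zpowers_le.2 (mk_zz_mem h11)
  have h0 : PSL2.mk g ∈ M0 h11 := by
    rcases hs with ⟨h01, h10⟩ | ⟨h00, h11'⟩
    · exact hle (diag_mem h11 hF h01 h10)
    · let d1 : SL(2, F) := ⟨!![5, 0; 0, 9], by rw [Matrix.det_fin_two_of]; linear_combination (4 : F) * h11⟩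
      let d2 : SL(2, F) := ⟨!![2, 0; 0, 6], by rw [Matrix.det_fin_two_of]; linear_combination h11⟩
      set W : SL(2, F) := xx * d1 * xx * d2 * xx with hW
      have hWm : PSL2.mk W ∈ M0 h11 := by
        have hx : PSL2.mk (xx : SL(2, F)) ∈ M0 h11 := Subgroup.subset_closure (Or.inl rfl)
        rw [hW, map_mul, map_mul, map_mul, map_mul]
        exact mul_mem (mul_mem (mul_mem (mul_mem hx (hle (diag_mem h11 hF rfl rfl))) hx)
          (hle (diag_mem h11 hF rfl rfl))) hx
      have hW00 : W 0 0 = 0 := by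
        simp only [hW, mul00, mul01, mul10, mul11]
        simp [d1, d2, xx]
        linear_combination (2 : F) * h11
      have hW11 : W 1 1 = 0 := by
        simp only [hW, mul00, mul01, mul10, mul11]
        simp [d1, d2, xx]
        linear_combination (2 : F) * h11
      have hq : PSL2.mk (g * W⁻¹) ∈ M0 h11 := hle (diag_mem h11 hF
        (by rw [mul01, inv01, inv11, h00, hW00]; ring)
        (by rw [mul10, inv00, inv10, h11', hW11]; ring))
      have := mul_mem hq hWm
      rwa [← map_mul, inv_mul_cancel_right] at this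
  refine ⟨h0, Subgroup.mem_map.2 ⟨_, h0, ?_⟩⟩
  obtain ⟨a, b, c, d⟩ := conj_entries g
  show AutPSL.conjP (dd' : GL (Fin 2) F) (QuotientGroup.mk g) = _
  rw [AutPSL.conjP_mk]
  refine mk_eq_mk.2 ?_
  rcases hs with ⟨h01, h10⟩ | ⟨h00, h11'⟩
  · exact Or.inl (ext2 a (b.trans (by rw [h01, neg_zero])) (c.trans (by rw [h10, neg_zero])) d)
  · refine Or.inr (ext2 ?_ ?_ ?_ ?_)
    · rw [a]; simp [h00]
    · rw [b]; simp
    · rw [c]; simp
    · rw [d]; simp [h11']

include hF in
theorem normaliser_mem {h : PSL(2, F)}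
    (hn : h * PSL2.mk (zz h11) * h⁻¹ ∈ Subgroup.zpowers (PSL2.mk (zz h11))) :
    h ∈ M0 h11 ∧ h ∈ M1 h11 := by
  obtain ⟨H, rfl⟩ := mk_surjective h
  obtain ⟨k, hk⟩ := Submonoid.mem_powers_iff _ _ |>.1
    ((isOfFinOrder_of_finite _).mem_powers_iff_mem_zpowers.2 hn)
  rw [← map_inv, ← map_mul, ← map_mul, ← map_pow] at hk
  obtain ⟨P, hP, hP01, hP10⟩ : ∃ P : SL(2, F), H * zz h11 = P * H ∧ P 0 1 = 0 ∧ P 1 0 = 0 := by
    obtain ⟨a, b, c, d⟩ := zz_pow h11 k
    rcases mk_eq_mk.1 hk with e | e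
    · exact ⟨zz h11 ^ k, by rw [e, inv_mul_cancel_right], b, c⟩
    · refine ⟨-(zz h11 ^ k), by rw [e, neg_neg, inv_mul_cancel_right], ?_, ?_⟩ <;>
        rw [Matrix.SpecialLinearGroup.coe_neg, Matrix.neg_apply]
      · rw [b, neg_zero]
      · rw [c, neg_zero]
  have e00 : H 0 0 * (-4) = P 0 0 * H 0 0 := by
    have := congrArg (fun g : SL(2, F) => g 0 0) hP
    simp only [mul00, hP01] at this
    simpa [zz] using this
  have e01 : H 0 1 * (-3) = P 0 0 * H 0 1 := by
    have := congrArg (fun g : SL(2, F) => g 0 1) hP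
    simp only [mul01, hP01] at this
    simpa [zz] using this
  have e10 : H 1 0 * (-4) = P 1 1 * H 1 0 := by
    have := congrArg (fun g : SL(2, F) => g 1 0) hP
    simp only [mul10, hP10] at this
    simpa [zz] using this
  have e11 : H 1 1 * (-3) = P 1 1 * H 1 1 := by
    have := congrArg (fun g : SL(2, F) => g 1 1) hP
    simp only [mul11, hP10] at this
    simpa [zz] using this
  apply shape_mem h11 hF
  have hdet := det_eq H
  by_cases h00 : H 0 0 = 0
  · right
    refine ⟨h00, ?_⟩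
    have h10 : H 1 0 ≠ 0 := fun h => by rw [h00, h] at hdet; simp at hdet
    have hp : P 1 1 = -4 := mul_right_cancel₀ h10 (e10.symm.trans (mul_comm _ _))
    rw [hp] at e11
    linear_combination e11
  · left
    have hp : P 0 0 = -4 := mul_right_cancel₀ h00 (e00.symm.trans (mul_comm _ _))
    rw [hp] at e01
    have h01 : H 0 1 = 0 := by linear_combination e01
    rw [h01, zero_mul, sub_zero] at hdet
    have hq : P 1 1 = -3 :=
      mul_right_cancel₀ (right_ne_zero_of_mul_eq_one hdet) (e11.symm.trans (mul_comm _ _))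
    rw [hq] at e10
    exact ⟨h01, by linear_combination -e10⟩

include hF in
theorem two_ne : (2 : F) ≠ 0 := by
  rw [← odd_card_iff, hF]; decide

theorem M0_ne_M1 : M0 h11 ≠ M1 h11 := by
  intro heq
  have hx : PSL2.mk (xx : SL(2, F)) ∈ M0 h11 := Subgroup.subset_closure (Or.inl rfl)
  have hxc : PSL2.mk (xxc : SL(2, F)) ∈ M0 h11 := by
    rw [heq]
    refine Subgroup.mem_map.2 ⟨_, hx, ?_⟩
    show AutPSL.conjP (dd' : GL (Fin 2) F) (QuotientGroup.mk _) = _
    rw [AutPSL.conjP_mk]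
    obtain ⟨a, b, c, d⟩ := conj_entries (xx : SL(2, F))
    exact congrArg _ (ext2 (a.trans (by simp [xx, xxc])) (b.trans (by simp [xx, xxc]))
      (c.trans (by simp [xx, xxc])) (d.trans (by simp [xx, xxc])))
  set W : SL(2, F) := xx * xxc with hWdef
  have htW : tr W = 6 := by
    rw [hWdef, tr_def, mul00, mul11]
    simp [xx, xxc]
    norm_num
  have hW : PSL2.mk W ∈ M0 h11 := by rw [hWdef, map_mul]; exact mul_mem hx hxc
  obtain ⟨e⟩ := iso_M0 h11
  have hd : ∀ g : alternatingGroup (Fin 5), g ^ 2 = 1 ∨ g ^ 3 = 1 ∨ g ^ 5 = 1 := by decide +kernel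
  have hW1 : PSL2.mk W ≠ 1 := mk_ne_one_of_tr
    (by rw [htW]; intro h; exact nat_ne_zero h11 4 (by norm_num) (by push_cast; linear_combination h))
    (by rw [htW]; intro h; exact nat_ne_zero h11 8 (by norm_num) (by push_cast; linear_combination h))
  have hcases : PSL2.mk W ^ 2 = 1 ∨ PSL2.mk W ^ 3 = 1 ∨ PSL2.mk W ^ 5 = 1 := by
    have hback : ∀ n : ℕ, e ⟨_, hW⟩ ^ n = 1 → PSL2.mk W ^ n = 1 := fun n h => by
      rw [← map_pow, ← map_one e] at h
      exact congrArg Subtype.val (e.injective h)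
    exact (hd (e ⟨_, hW⟩)).imp (hback 2) (Or.imp (hback 3) (hback 5))
  haveI : Fact (Nat.Prime 2) := ⟨Nat.prime_two⟩
  haveI : Fact (Nat.Prime 3) := ⟨Nat.prime_three⟩
  haveI : Fact (Nat.Prime 5) := ⟨by norm_num⟩
  rcases hcases with h | h | h
  · obtain ⟨g, hg, ht, -⟩ := exists_tr_eq_zero (orderOf_eq_prime h hW1)
    rcases mk_eq_mk.1 hg with rfl | rfl
    · exact nat_ne_zero h11 6 (by norm_num) (by push_cast; linear_combination ht - htW)
    · rw [tr_neg, htW] at ht
      exact nat_ne_zero h11 6 (by norm_num) (by push_cast; linear_combination -ht)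
  · obtain ⟨g, hg, ht⟩ := Conjugate.exists_lift_three (orderOf_eq_prime h hW1)
    rcases mk_eq_mk.1 hg with rfl | rfl
    · exact nat_ne_zero h11 5 (by norm_num) (by push_cast; linear_combination ht - htW)
    · rw [tr_neg, htW] at ht
      exact nat_ne_zero h11 7 (by norm_num) (by push_cast; linear_combination -ht)
  · rcases Conjugate.golden_of_orderOf (orderOf_eq_prime h hW1) with ht | ht <;> rw [htW] at ht
    · exact nat_ne_zero h11 29 (by norm_num) (by push_cast; linear_combination ht)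
    · exact nat_ne_zero h11 41 (by norm_num) (by push_cast; linear_combination ht)

include hF in
theorem not_conj (g : PSL(2, F)) : MulAut.conj g • M0 h11 ≠ M1 h11 := by
  intro heq
  set z := PSL2.mk (zz h11) with hz
  haveI : Fact (Nat.Prime 5) := ⟨by norm_num⟩
  have hzM0 : z ∈ M0 h11 := mk_zz_mem h11
  have hzM1 : z ∈ M1 h11 := (shape_mem h11 hF (Or.inl ⟨by simp [zz], by simp [zz]⟩)).2
  have hzg : g * z * g⁻¹ ∈ M1 h11 := by
    rw [← heq]; exact Subgroup.smul_mem_pointwise_smul _ _ _ hzM0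
  have hoz : orderOf z = 5 := by
    refine orderOf_eq_prime (mk_pow_five ?_) (mk_ne_one_of_tr ?_ ?_)
    · rw [tr_def]; simp [zz]; linear_combination (205 : F) * h11
    · rw [tr_def]; simp [zz]
      intro h; exact nat_ne_zero h11 9 (by norm_num) (by push_cast; linear_combination -h)
    · rw [tr_def]; simp [zz]
      intro h; exact nat_ne_zero h11 5 (by norm_num) (by push_cast; linear_combination -h)
  obtain ⟨e⟩ := iso_M1 h11
  have hc60 : Nat.card (M1 h11) = 60 := by
    rw [Nat.card_congr e.toEquiv, nat_card_alternatingGroup, Nat.card_fin]; decide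
  have hfac : Nat.card (M1 h11) = 5 ^ 1 * 12 := hc60
  have hsyl : ∀ S : Sylow 5 (M1 h11), Nat.card S = 5 := fun S => by
    have hf : (Nat.card (M1 h11)).factorization 5 = 1 := by
      rw [hfac, Nat.factorization_mul (by norm_num) (by norm_num), Finsupp.add_apply,
        Nat.Prime.factorization_pow (by norm_num), Finsupp.single_eq_same,
        Nat.factorization_eq_zero_of_not_dvd (by norm_num)]
    rw [Sylow.card_eq_multiplicity, hf, pow_one]
  have mkS : ∀ a : M1 h11, orderOf a = 5 → ∃ S : Sylow 5 (M1 h11),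
      (S : Subgroup (M1 h11)) = Subgroup.zpowers a := fun a ha => by
    obtain ⟨S, hS⟩ := (IsPGroup.of_card (p := 5) (n := 1)
      (by rw [Nat.card_zpowers, ha, pow_one]) : IsPGroup 5 (Subgroup.zpowers a)).exists_le_sylow
    exact ⟨S, (Subgroup.eq_of_le_of_card_ge hS (by rw [Nat.card_zpowers, ha]; exact (hsyl S).le)).symm⟩
  set a : M1 h11 := ⟨z, hzM1⟩ with ha
  set b : M1 h11 := ⟨g * z * g⁻¹, hzg⟩ with hb
  have hao : orderOf a = 5 := by rw [← Subgroup.orderOf_coe]; exact hoz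
  have hbo : orderOf b = 5 := by
    rw [← Subgroup.orderOf_coe]
    exact (MulEquiv.orderOf_eq (MulAut.conj g) z).trans hoz
  obtain ⟨S, hS⟩ := mkS a hao
  obtain ⟨T, hT⟩ := mkS b hbo
  obtain ⟨m, hm⟩ := MulAction.exists_smul_eq (M1 h11) T S
  have hmem : m * b * m⁻¹ ∈ Subgroup.zpowers a := by
    rw [← hS, ← hm, Sylow.coe_subgroup_smul]
    exact Subgroup.smul_mem_pointwise_smul b (MulAut.conj m) (T : Subgroup (M1 h11))
      (hT ▸ Subgroup.mem_zpowers b)
  have hmem' : ((m : PSL(2, F)) * g) * z * ((m : PSL(2, F)) * g)⁻¹ ∈ Subgroup.zpowers z := by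
    obtain ⟨k, hk⟩ := Subgroup.mem_zpowers_iff.1 hmem
    refine Subgroup.mem_zpowers_iff.2 ⟨k, ?_⟩
    have hk' := congrArg Subtype.val hk
    simp only [ha, hb, Subgroup.coe_mul, Subgroup.coe_inv, SubgroupClass.coe_zpow] at hk'
    rw [hk']; group
  obtain ⟨hh0, -⟩ := normaliser_mem h11 hF hmem'
  refine M0_ne_M1 h11 ?_
  calc M0 h11 = MulAut.conj ((m : PSL(2, F)) * g) • M0 h11 :=
        (Subgroup.conj_smul_eq_self_of_mem hh0).symm
    _ = MulAut.conj (m : PSL(2, F)) • MulAut.conj g • M0 h11 := by rw [map_mul, mul_smul]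
    _ = M1 h11 := by rw [heq]; exact Subgroup.conj_smul_eq_self_of_mem m.2

theorem conjP_eq_conj {Q : GL (Fin 2) F} (hQ : IsSquare (Q : Matrix (Fin 2) (Fin 2) F).det) :
    ∃ g : PSL(2, F), AutPSL.conjP Q = MulAut.conj g := by
  obtain ⟨c, hc⟩ := hQ
  have hc0 : c ≠ 0 := fun h => (Matrix.GeneralLinearGroup.det Q).ne_zero (by
    show (Q : Matrix (Fin 2) (Fin 2) F).det = 0
    rw [hc, h, mul_zero])
  let S : SL(2, F) := ⟨c⁻¹ • (Q : Matrix (Fin 2) (Fin 2) F), by
    rw [Matrix.det_smul, Fintype.card_fin, hc]; field_simp⟩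
  refine ⟨PSL2.mk S, MulEquiv.ext fun x => ?_⟩
  induction x using QuotientGroup.induction_on with
  | _ s =>
    rw [AutPSL.conjP_mk, MulAut.conj_apply]
    show PSL2.mk _ = PSL2.mk S * PSL2.mk s * (PSL2.mk S)⁻¹
    rw [← map_inv, ← map_mul, ← map_mul]
    refine congrArg _ (eq_mul_inv_of_mul_eq ?_)
    refine Subtype.ext ?_
    rw [Matrix.SpecialLinearGroup.coe_mul, Matrix.SpecialLinearGroup.coe_mul, AutPSL.conjSL_coe]
    show _ * (c⁻¹ • (Q : Matrix (Fin 2) (Fin 2) F)) = c⁻¹ • (Q : Matrix (Fin 2) (Fin 2) F) * s.1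
    rw [Matrix.mul_smul, Matrix.smul_mul, mul_assoc, Units.inv_mul, mul_one]

include hF in
theorem classify (L : Subgroup PSL(2, F)) (hL : Nonempty (L ≃* alternatingGroup (Fin 5))) :
    ∃ g : PSL(2, F), MulAut.conj g • M0 h11 = L ∨ MulAut.conj g • M1 h11 = L := by
  classical
  have h2 := two_ne hF
  obtain ⟨X, Y, s, hP, hs⟩ := Conjugate.altFive_genPair hL
  obtain ⟨X', Y', hP'⟩ : ∃ X' Y' : SL(2, F), Conjugate.IsGenPair L X' Y' 4 := by
    have hz : (s - 4) * (s - 8) = 0 := by linear_combination hs + (3 - s) * h11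
    rcases mul_eq_zero.1 hz with h | h
    · rw [sub_eq_zero] at h
      exact ⟨X, Y, h ▸ hP⟩
    · obtain ⟨X', Y', hP'⟩ := second_pair h2
        (nat_ne_zero h11 3 (by norm_num)) (nat_ne_zero h11 5 (by norm_num)) hL hP hs
      refine ⟨X', Y', ?_⟩
      rwa [show (1 : F) - s = 4 by linear_combination -h - h11] at hP'
  obtain ⟨Q, hQ⟩ := Conjugate.exists_conjP_eq h2 (genPair_M0 h11) hP'
    (fun h => nat_ne_zero h11 13 (by norm_num) (by push_cast; linear_combination h))
  by_cases hsq : IsSquare (Q : Matrix (Fin 2) (Fin 2) F).det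
  · obtain ⟨g, hg⟩ := conjP_eq_conj hsq
    exact ⟨g, Or.inl (by rw [← hQ, hg]; rfl)⟩
  · have hdd : (dd' : GL (Fin 2) F) * dd' = 1 := Units.ext (dd' : GL (Fin 2) F).val_inv
    have hsq' : IsSquare ((Q * dd' : GL (Fin 2) F) : Matrix (Fin 2) (Fin 2) F).det := by
      rw [Units.val_mul, Matrix.det_mul, show ((dd' : GL (Fin 2) F) : Matrix (Fin 2) (Fin 2) F).det = -1 by
        simp [dd', Matrix.det_fin_two_of]]
      have hd : (Q : Matrix (Fin 2) (Fin 2) F).det ≠ 0 := (Matrix.GeneralLinearGroup.det Q).ne_zero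
      have hm1 : ¬ IsSquare (-1 : F) := by
        rw [FiniteField.isSquare_neg_one_iff, hF]; decide
      rw [← quadraticChar_one_iff_isSquare (mul_ne_zero hd (neg_ne_zero.2 one_ne_zero)), map_mul,
        quadraticChar_neg_one_iff_not_isSquare.2 hsq, quadraticChar_neg_one_iff_not_isSquare.2 hm1]
      norm_num
    obtain ⟨g, hg⟩ := conjP_eq_conj hsq'
    refine ⟨g, Or.inr ?_⟩
    show (M1 h11).map (MulAut.conj g).toMonoidHom = L
    rw [← hg, ← hQ, M1, Subgroup.map_map]
    congr 1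
    refine MonoidHom.ext fun x => ?_
    show AutPSL.conjP (Q * dd') (AutPSL.conjP (dd' : GL (Fin 2) F) x) = AutPSL.conjP Q x
    rw [← MulAut.mul_apply, ← map_mul, mul_assoc, hdd, mul_one]

include hF in
theorem card_PSL_eleven : Nat.card PSL(2, F) = 660 := by
  have h := two_mul_card_PSL (two_ne hF)
  rw [hF] at h
  norm_num at h
  omega

include hF in
theorem index_eleven {M : Subgroup PSL(2, F)} (hM : Nonempty (M ≃* alternatingGroup (Fin 5))) :
    M.index = 11 := by
  obtain ⟨e⟩ := hM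
  have h := M.card_mul_index
  rw [card_PSL_eleven hF, Nat.card_congr e.toEquiv, nat_card_alternatingGroup, Nat.card_fin] at h
  norm_num [Nat.factorial] at h
  omega

end Cfsg.Agent.PSL2Eleven
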