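import Cfsg.Agent.Lib.PSL2.PairConj
import Cfsg.Agent.Lib.PSL2.Platonic

/-!
# Icosahedral pairs in `PSL(2, F)`: both golden traces occur in every `A_5`
-/

set_option autoImplicit false
set_option linter.style.haveILetI false

open Matrix
open scoped MatrixGroups

namespace Cfsg.Agent.PSL2Eleven

open PSL2

variable {G : Type*} [Group G]

/-- A `(3, 5, 2)` pair generates an `A₅`. -/
theorem altFive_of_pair {x y : G} (hx : x ^ 3 = 1) (hy : y ^ 5 = 1) (hxy : (x * y) ^ 2 = 1)
    (hne : x ≠ 1) : Nonempty (Subgroup.closure ({x, y} : Set G) ≃* alternatingGroup (Fin 5)) := by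
  obtain ⟨a, b, ha, hb, hab, hgen⟩ := Presented.A5.exists_gens
  obtain ⟨φ, hφa, hφb⟩ := Presented.SmallHom.exists_hom_of_bound hgen x y (by
    have h := Presented.A5.card_le
      (K := Subgroup.closure ({(a, x), (b, y)} : Set (alternatingGroup (Fin 5) × G)))
      Presented.SmallHom.closure_pair_eq_top (Subtype.ext (Prod.ext ha hx))
      (Subtype.ext (Prod.ext hb hy)) (Subtype.ext (Prod.ext hab hxy))
    refine ⟨h.1, h.2.trans_eq ?_⟩
    rw [nat_card_alternatingGroup, Nat.card_fin]; decide)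
  haveI : IsSimpleGroup (alternatingGroup (Fin 5)) := alternatingGroup.isSimpleGroup (by simp)
  have hinj : Function.Injective φ := by
    rcases IsSimpleGroup.eq_bot_or_eq_top_of_normal φ.ker inferInstance with h | h
    · exact (MonoidHom.ker_eq_bot_iff φ).1 h
    · exact absurd (hφa ▸ MonoidHom.mem_ker.1 (h ▸ Subgroup.mem_top a)) hne
  have hr : φ.range = Subgroup.closure ({x, y} : Set G) := by
    rw [MonoidHom.range_eq_map, ← hgen, MonoidHom.map_closure, Set.image_pair, hφa, hφb]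
  exact ⟨(MulEquiv.subgroupCongr hr.symm).trans (MonoidHom.ofInjective hinj).symm⟩

theorem orders_altFive (g : alternatingGroup (Fin 5)) : orderOf g ∣ 30 := by
  have h : ∀ g : alternatingGroup (Fin 5), g ^ 30 = 1 := by decide +kernel
  exact orderOf_dvd_of_pow_eq_one (h g)

variable {F : Type*} [Field F]

theorem mk_ne_one_of_tr {g : SL(2, F)} (h1 : tr g ≠ 2) (h2 : tr g ≠ -2) : PSL2.mk g ≠ 1 := by
  intro h
  rcases mk_eq_one.1 h with rfl | rfl
  · exact h1 (by rw [tr_def]; simp; norm_num)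
  · exact h2 (by rw [tr_def]; simp; norm_num)

theorem closure_eq_of_genPair {M : Subgroup PSL(2, F)} {X Y : SL(2, F)} {s : F}
    (h : Conjugate.IsGenPair M X Y s) : PSL2.mk X ∈ M ∧ PSL2.mk Y ∈ M := by
  rw [← h.1]
  exact ⟨Subgroup.subset_closure (Or.inl rfl), Subgroup.subset_closure (Or.inr rfl)⟩

/-- In an icosahedral subgroup both roots of `s² = s + 1` occur as trace data. -/
theorem second_pair (h2 : (2 : F) ≠ 0) (h3 : (3 : F) ≠ 0) (h5 : (5 : F) ≠ 0) {M : Subgroup PSL(2, F)}
    (hM : Nonempty (M ≃* alternatingGroup (Fin 5))) {X Y : SL(2, F)} {s : F}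
    (h : Conjugate.IsGenPair M X Y s) (hs : s ^ 2 = s + 1) :
    ∃ X' Y' : SL(2, F), Conjugate.IsGenPair M X' Y' (1 - s) := by
  obtain ⟨hXM, hYM⟩ := closure_eq_of_genPair h
  obtain ⟨hgen, hX, hY, hXY⟩ := h
  set Z := X * Y with hZ
  set Y' := Z⁻¹ * Z⁻¹ * Y * (Z * Z) with hY'
  have hYtr : tr Y' = 1 := by
    rw [← hY, hY', show Z * Z = (Z⁻¹ * Z⁻¹)⁻¹ by rw [_root_.mul_inv_rev, inv_inv], tr_conj]
  have hprod : tr (X * Y') = s - 1 := by
    set A := (X : Matrix (Fin 2) (Fin 2) F) with hA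
    set Zm := (Z : Matrix (Fin 2) (Fin 2) F) with hZm
    set Ym := (Y : Matrix (Fin 2) (Fin 2) F) with hYm
    have hAA : A * A = -1 := by
      have := congrArg (fun g : SL(2, F) => (g : Matrix (Fin 2) (Fin 2) F)) (sq_eq_neg_one_of_tr_eq_zero hX)
      simpa using this
    have hAZ : A * Zm = -Ym := by
      rw [hZm, hZ, Matrix.SpecialLinearGroup.coe_mul, ← mul_assoc, hAA, neg_one_mul]
    have hZi : ((Z⁻¹ : SL(2, F)) : Matrix (Fin 2) (Fin 2) F) = s • 1 - Zm := by
      have ht : Zm 0 0 + Zm 1 1 = s := hXY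
      ext i j
      fin_cases i <;> fin_cases j
      · show Z⁻¹ 0 0 = _
        rw [inv00]; simp [hZm, ← hXY, tr_def]
      · show Z⁻¹ 0 1 = _
        rw [inv01]; simp [hZm]
      · show Z⁻¹ 1 0 = _
        rw [inv10]; simp [hZm]
      · show Z⁻¹ 1 1 = _
        rw [inv11]; simp [hZm, ← hXY, tr_def]
    have hmul : Zm * (s • 1 - Zm) = 1 := by
      rw [← hZi, hZm, ← Matrix.SpecialLinearGroup.coe_mul, mul_inv_cancel,
        Matrix.SpecialLinearGroup.coe_one]
    have hZZ : Zm * Zm = s • Zm - 1 := by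
      rw [mul_sub, Matrix.mul_smul, mul_one, sub_eq_iff_eq_add] at hmul
      rw [hmul]; abel
    have hW : (s • 1 - Zm) * (s • 1 - Zm) = s • (1 - Zm) := by
      simp only [sub_mul, mul_sub, Matrix.smul_mul, Matrix.mul_smul, one_mul, mul_one, hZZ, smul_smul]
      rw [show s * s = s + 1 by rw [← hs]; ring, add_smul, one_smul, smul_sub]
      abel
    have hV : Zm * (Zm * Zm) = s • (Zm - 1) := by
      rw [hZZ, mul_sub, mul_one, Matrix.mul_smul, hZZ, smul_sub, smul_smul,
        show s * s = s + 1 by rw [← hs]; ring, add_smul, one_smul, smul_sub]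
      abel
    have hYm' : Ym = -(A * Zm) := by rw [hAZ, neg_neg]
    have hB : A * (1 - Zm) = A + Ym := by rw [mul_sub, mul_one, hAZ, sub_neg_eq_add]
    have hval : ((X * Y' : SL(2, F)) : Matrix (Fin 2) (Fin 2) F) = (s * s) • ((A + Ym) * (A + Ym)) := by
      rw [hY', Matrix.SpecialLinearGroup.coe_mul, Matrix.SpecialLinearGroup.coe_mul,
        Matrix.SpecialLinearGroup.coe_mul, Matrix.SpecialLinearGroup.coe_mul,
        Matrix.SpecialLinearGroup.coe_mul, hZi, hW, ← hB]
      rw [← hA, ← hZm, ← hYm, hYm']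
      simp only [Matrix.smul_mul, Matrix.mul_smul, neg_mul, mul_neg, mul_assoc, hV]
      simp only [mul_sub, sub_mul, mul_one, one_mul, smul_sub, mul_assoc, smul_smul]
      abel
    have h1 : Matrix.trace (A * A) = -2 := by
      rw [hAA, Matrix.trace_neg, Matrix.trace_one]; simp
    have h2' : Matrix.trace (A * Ym) = s := by
      rw [hA, hYm, ← Matrix.SpecialLinearGroup.coe_mul, ← tr_eq_trace, ← hZ, hXY]
    have h3' : Matrix.trace (Ym * Ym) = -1 := by
      rw [hYm, ← Matrix.SpecialLinearGroup.coe_mul, ← tr_eq_trace, tr_mul_self, hY]; ring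
    rw [tr_eq_trace, hval, Matrix.trace_smul]
    simp only [add_mul, mul_add, Matrix.trace_add, Matrix.trace_mul_comm Ym A, h1, h2', h3',
      smul_eq_mul]
    linear_combination (2 * s - 1) * hs
  refine ⟨-X, Y', ?_, by rw [tr_neg, hX, neg_zero], hYtr, by rw [neg_mul, tr_neg, hprod]; ring⟩
  rw [mk_neg]
  have hzM : PSL2.mk Z ∈ M := by rw [hZ, map_mul]; exact mul_mem hXM hYM
  have hY'M : PSL2.mk Y' ∈ M := by
    rw [hY', map_mul, map_mul, map_mul, map_mul, map_inv]
    exact mul_mem (mul_mem (mul_mem (inv_mem hzM) (inv_mem hzM)) hYM) (mul_mem hzM hzM)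
  set K := Subgroup.closure ({PSL2.mk X, PSL2.mk Y'} : Set PSL(2, F)) with hK
  have hle : K ≤ M := by
    rw [hK, Subgroup.closure_le]
    rintro z (rfl | rfl)
    exacts [hXM, hY'M]
  have hx : PSL2.mk X ∈ K := Subgroup.subset_closure (Or.inl rfl)
  have hy : PSL2.mk Y' ∈ K := Subgroup.subset_closure (Or.inr rfl)
  haveI : Fact (Nat.Prime 2) := ⟨Nat.prime_two⟩
  haveI : Fact (Nat.Prime 3) := ⟨Nat.prime_three⟩
  haveI : Fact (Nat.Prime 5) := ⟨by norm_num⟩
  have o2 : orderOf (PSL2.mk X) = 2 :=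
    orderOf_eq_prime (mk_sq_of_tr_eq_zero hX) (mk_ne_one_of_tr (by rw [hX]; exact h2.symm)
      (by rw [hX, ne_eq, zero_eq_neg]; exact h2))
  have o3 : orderOf (PSL2.mk Y') = 3 :=
    orderOf_eq_prime (mk_cube_of_tr_eq_one hYtr) (mk_ne_one_of_tr
      (by rw [hYtr]; intro h; exact one_ne_zero (show (1 : F) = 0 by linear_combination -h))
      (by rw [hYtr]; intro h; exact h3 (by linear_combination h)))
  have o5 : orderOf (PSL2.mk X * PSL2.mk Y') = 5 := by
    rw [← map_mul]
    have hz1 : tr (X * Y') ^ 2 = -tr (X * Y') + 1 := by rw [hprod]; linear_combination hs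
    refine orderOf_eq_prime (mk_pow_five (by
      linear_combination (tr (X * Y') ^ 2 - tr (X * Y') - 1) * hz1)) (mk_ne_one_of_tr ?_ ?_)
    · intro h; rw [h] at hz1; exact h5 (by linear_combination hz1)
    · intro h; rw [h] at hz1; exact one_ne_zero (show (1 : F) = 0 by linear_combination hz1)
  have hMc : Nat.card M = 60 := by
    obtain ⟨e⟩ := hM
    rw [Nat.card_congr e.toEquiv, nat_card_alternatingGroup, Nat.card_fin]; decide
  have : Finite M := Nat.finite_of_card_ne_zero (by omega)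
  have : Finite K := Finite.of_injective _ (Subgroup.inclusion_injective hle)
  have d2 : 2 ∣ Nat.card K := (dvd_of_eq o2.symm).trans (K.orderOf_dvd_natCard hx)
  have d3 : 3 ∣ Nat.card K := (dvd_of_eq o3.symm).trans (K.orderOf_dvd_natCard hy)
  have d5 : 5 ∣ Nat.card K := (dvd_of_eq o5.symm).trans (K.orderOf_dvd_natCard (mul_mem hx hy))
  haveI : IsSimpleGroup M := by
    obtain ⟨e⟩ := hM
    haveI : IsSimpleGroup (alternatingGroup (Fin 5)) := alternatingGroup.isSimpleGroup (by simp)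
    exact MulEquiv.isSimpleGroup e
  have hKc : Nat.card (K.subgroupOf M) = Nat.card K :=
    Nat.card_congr (Subgroup.subgroupOfEquivOfLe hle).toEquiv
  have hmul := (K.subgroupOf M).card_mul_index
  rw [hKc, hMc] at hmul
  by_contra hne
  have hidx : (K.subgroupOf M).index = 2 := by
    have h30 : 30 ∣ Nat.card K := by omega
    obtain ⟨c, hc⟩ := h30
    rw [hc] at hmul
    have hi1 : (K.subgroupOf M).index ≠ 1 := fun h1 => hne (le_antisymm hle
      (Subgroup.subgroupOf_eq_top.1 (Subgroup.index_eq_one.1 h1)))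
    have hprod2 : c * (K.subgroupOf M).index = 2 := by
      rw [mul_assoc] at hmul; omega
    rcases (Nat.dvd_prime Nat.prime_two).1 (⟨_, hprod2.symm⟩ : c ∣ 2) with rfl | rfl <;> omega
  haveI := Subgroup.normal_of_index_eq_two hidx
  rcases IsSimpleGroup.eq_bot_or_eq_top_of_normal (K.subgroupOf M) inferInstance with hb | ht
  · rw [hb, Subgroup.card_bot] at hKc
    omega
  · rw [ht, Subgroup.index_top] at hidx
    omega

end Cfsg.Agent.PSL2Eleven
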